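/-
The centraliser `⟨t⟩ × K`, `K ≅ PSL₂(q)`, with abelian Sylow 2-subgroups: `q mod 8` and the Sylow
2-subgroup.
-/
import Cfsg.Agent.Lib.JankoThompson.Setup
import Cfsg.Agent.Lib.Walter66.Config
import Cfsg.Agent.Lib.Walter.NoField.Section
import Cfsg.Agent.Lib.SmallGroups.ProjLine

set_option autoImplicit false
set_option linter.unusedSectionVars false
set_option linter.style.haveILetI false

universe u v

namespace Cfsg.Agent.Lib.JankoThompson.Local

open Subgroup Walter66

variable {G : Type u} [Group G] [Finite G]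

/-- With abelian Sylow 2-subgroups no element interchanges two commuting involutions. -/
theorem not_swap (hab : ∀ P : Sylow 2 G, ∀ a b : P, a * b = b * a) {d a b : G}
    (ha : a * a = 1) (hb : b * b = 1) (hc : a * b = b * a) (h1 : d * a * d⁻¹ = b)
    (h2 : d * b * d⁻¹ = a) : a = b := by
  haveI : Fact (Nat.Prime 2) := ⟨Nat.prime_two⟩
  obtain ⟨k, m, hm, hkm⟩ := Nat.exists_eq_two_pow_mul_odd (orderOf_pos d).ne'
  set V := closure ({a, b} : Set G) with hV
  have hVp : IsPGroup 2 V := closure_pgroup (by rintro x (rfl | rfl) <;> assumption)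
    (by rintro x (rfl | rfl) y (rfl | rfl) <;> first | rfl | exact hc | exact hc.symm)
  have hdV : d ∈ normalizer (V : Set G) := by
    have hle : V.map (MulAut.conj d).toMonoidHom ≤ V := by
      rw [hV, MonoidHom.map_closure, closure_le]
      rintro _ ⟨x, rfl | rfl, rfl⟩
      · exact subset_closure (Or.inr h1)
      · exact subset_closure (Or.inl h2)
    rw [mem_normalizer_iff_map_conj_eq]
    exact eq_of_le_of_card_ge hle
      (card_map_of_injective (MulAut.conj d).injective).ge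
  have hz : IsPGroup 2 (zpowers (d ^ m)) := by
    obtain ⟨l, -, hl⟩ := (Nat.dvd_prime_pow Nat.prime_two).1
      (show orderOf (d ^ m) ∣ 2 ^ k from orderOf_dvd_of_pow_eq_one (by
        rw [← pow_mul, mul_comm m, ← hkm, pow_orderOf_eq_one]))
    exact IsPGroup.of_card (n := l) (by rw [Nat.card_zpowers, hl])
  have hp := hz.to_sup_of_normal_right' hVp (zpowers_le.2 (pow_mem hdV m))
  have hcm := pgroup_comm (fun S => ⟨⟨hab S⟩⟩) hp (mem_sup_left (mem_zpowers (d ^ m)))
    (mem_sup_right (subset_closure (Or.inl rfl) : a ∈ V))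
  have h2j : ∀ j : ℕ, d ^ (2 * j) * a * (d ^ (2 * j))⁻¹ = a := fun j => by
    induction j with
    | zero => simp
    | succ j ih =>
      rw [show d ^ (2 * (j + 1)) * a * (d ^ (2 * (j + 1)))⁻¹ =
        d * (d * (d ^ (2 * j) * a * (d ^ (2 * j))⁻¹) * d⁻¹) * d⁻¹ by
          rw [show 2 * (j + 1) = 1 + (1 + 2 * j) by ring, pow_add, pow_add, pow_one]; group,
        ih, h1, h2]
  obtain ⟨j, hj⟩ := hm
  have e : d ^ m * a * (d ^ m)⁻¹ = b := by
    rw [show d ^ m * a * (d ^ m)⁻¹ = d * (d ^ (2 * j) * a * (d ^ (2 * j))⁻¹) * d⁻¹ by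
      rw [hj, pow_succ']; group, h2j, h1]
  rwa [hcm, mul_inv_cancel_right] at e

variable {F : Type v} [Field F] [Fintype F] {t : G}

theorem not_mem (c : Cfg G F t) : t ∉ c.K := fun h =>
  c.ne_one (mem_bot.1 (c.prod.2.2.2.1 ▸ mem_inf.2 ⟨mem_zpowers t, h⟩))

theorem decomp (c : Cfg G F t) {g : G} (hg : g * t = t * g) :
    ∃ e ∈ c.K, g = e ∨ g = t * e := by
  let T : Subgroup G :=
    { carrier := {g | ∃ e ∈ c.K, g = e ∨ g = t * e}
      one_mem' := ⟨1, one_mem _, Or.inl rfl⟩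
      mul_mem' := by
        rintro a b ⟨e, he, ha | ha⟩ ⟨f, hf, hb | hb⟩ <;> subst ha hb
        · exact ⟨a * b, mul_mem he hf, Or.inl rfl⟩
        · exact ⟨a * f, mul_mem he hf, Or.inr (by rw [← mul_assoc, ← (c.comm he).eq, mul_assoc])⟩
        · exact ⟨e * b, mul_mem he hf, Or.inr (mul_assoc _ _ _)⟩
        · refine ⟨e * f, mul_mem he hf, Or.inl ?_⟩
          rw [show t * e * (t * f) = t * (e * t) * f by group, ← (c.comm he).eq, ← mul_assoc t t e,
            c.sq, one_mul]
      inv_mem' := by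
        rintro a ⟨e, he, ha | ha⟩ <;> subst ha
        · exact ⟨a⁻¹, inv_mem he, Or.inl rfl⟩
        · refine ⟨e⁻¹, inv_mem he, Or.inr ?_⟩
          rw [mul_inv_rev, inv_eq_of_mul_eq_one_right c.sq, (c.comm (inv_mem he)).eq] }
  have hle : centralizer ({t} : Set G) ≤ T :=
    c.prod.2.2.2.2 ▸ sup_le (zpowers_le.2 ⟨1, one_mem _, Or.inr (mul_one t).symm⟩)
      fun e he => ⟨e, he, Or.inl rfl⟩
  exact hle (mem_centralizer_singleton_iff.2 hg)

theorem exists_model (c : Cfg G F t) : ∃ (F₀ : Type) (_ : Field F₀) (_ : Fintype F₀),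
    Fintype.card F₀ = Fintype.card F ∧
      Nonempty (↥c.K ≃* Matrix.ProjectiveSpecialLinearGroup (Fin 2) F₀) := by
  classical
  obtain ⟨p, hp⟩ := CharP.exists F
  haveI : Fact p.Prime := ⟨CharP.char_is_prime F p⟩
  obtain ⟨n, -, hn⟩ := FiniteField.card F p
  letI : Fintype (GaloisField p n) := Fintype.ofFinite _
  have hcard : Fintype.card (GaloisField p n) = Fintype.card F := by
    rw [← Nat.card_eq_fintype_card, GaloisField.card p n n.pos.ne', hn]
  obtain ⟨e⟩ := SmallGroups.ProjLine.psl_congr_card (F := F) (F' := GaloisField p n) hcard.symm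
  exact ⟨GaloisField p n, inferInstance, inferInstance, hcard, ⟨c.iso.trans e⟩⟩

theorem conf (c : Cfg G F t) (hab : ∀ P : Sylow 2 G, ∀ a b : P, a * b = b * a)
    (hodd : Odd (Fintype.card F)) : Conf t c.K c.K := by
  obtain ⟨F₀, _, _, hcard, ⟨φ⟩⟩ := exists_model c
  refine ⟨fun P => ⟨⟨hab P⟩⟩, c.ord, fun e he => (c.comm he).eq.symm, not_mem c,
    fun g hg => decomp c hg, le_rfl, fun a ha x hx => mul_mem (mul_mem ha hx) (inv_mem ha), ?_,
    ⟨F₀, inferInstance, inferInstance, hcard ▸ hodd, ⟨φ⟩⟩⟩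
  intro x hx hc
  have hz : φ ⟨x, hx⟩ ∈ Subgroup.center _ := Subgroup.mem_center_iff.2 fun y => by
    obtain ⟨k, rfl⟩ := φ.surjective y
    rw [← map_mul, ← map_mul]
    exact congrArg φ (Subtype.ext (hc k k.2).symm)
  rw [PushUpP.center_psl, mem_bot, map_eq_one_iff φ φ.injective] at hz
  exact congrArg Subtype.val hz

/-- The Sylow 2-subgroup `⟨t⟩ × {1, a, b, a b}` has order eight. -/
theorem exists_sylow_eight {a b r : G} (K : Cfg G F t)
    (hC : Conf t K.K K.K) (T : Tri K.K K.K a b r) :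
    ∃ P : Sylow 2 G, Nat.card ↥(P : Subgroup G) = 8 ∧ ∀ p : G, p ∈ (P : Subgroup G) ↔
      ∃ v : G, (v = 1 ∨ v = a ∨ v = b ∨ v = a * b) ∧ (p = v ∨ p = t * v) := by
  classical
  obtain ⟨P, hP⟩ := hC.exists_sylow T
  refine ⟨P, ?_, hP⟩
  have hab1 : a * b ≠ 1 := fun h => T.ne (by rw [eq_inv_of_mul_eq_one_left h,
    inv_eq_of_mul_eq_one_right (sq_of_ord T.hb)])
  have ha := ne_one_of_ord T.ha
  have hb := ne_one_of_ord T.hb
  have h1a : a * b ≠ a := fun h => hb (mul_eq_left.1 h)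
  have h1b : a * b ≠ b := fun h => ha (mul_eq_right.1 h)
  let V : Finset G := {1, a, b, a * b}
  have hVc : V.card = 4 := by
    rw [Finset.card_insert_of_notMem (by simp [ha.symm, hb.symm, hab1.symm]),
      Finset.card_insert_of_notMem (by simp [T.ne, h1a.symm]),
      Finset.card_insert_of_notMem (by simp [h1b.symm]), Finset.card_singleton]
  have hVK : ∀ v ∈ V, v ∈ K.K := by
    intro v hv
    simp only [V, Finset.mem_insert, Finset.mem_singleton] at hv
    rcases hv with rfl | rfl | rfl | rfl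
    exacts [one_mem _, T.amem, T.bmem, mul_mem T.amem T.bmem]
  have hdisj : Disjoint V (V.image (t * ·)) := by
    rw [Finset.disjoint_left]
    intro x hx hx'
    obtain ⟨v, hv, rfl⟩ := Finset.mem_image.1 hx'
    exact not_mem K ((K.K.mul_mem_cancel_right (hVK v hv)).1 (hVK _ hx))
  have hset : ((P : Subgroup G) : Set G) = ((V ∪ V.image (t * ·) : Finset G) : Set G) := by
    ext p
    rw [SetLike.mem_coe, hP p]
    simp only [V, Finset.coe_union, Finset.coe_image, Finset.coe_insert, Finset.coe_singleton,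
      Set.mem_union, Set.mem_image, Set.mem_insert_iff, Set.mem_singleton_iff]
    constructor
    · rintro ⟨v, hv, rfl | rfl⟩
      exacts [Or.inl hv, Or.inr ⟨v, hv, rfl⟩]
    · rintro (h | ⟨v, hv, rfl⟩)
      exacts [⟨p, h, Or.inl rfl⟩, ⟨v, hv, Or.inr rfl⟩]
  rw [← SetLike.coe_sort_coe, Nat.card_coe_set_eq, hset, Set.ncard_coe_finset,
    Finset.card_union_of_disjoint hdisj,
    Finset.card_image_of_injective _ (mul_right_injective t), hVc]

/-- All Sylow 2-subgroups have order eight, and `8 ∤ |K|`. -/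
theorem sylow_facts (c : Cfg G F t) (hab : ∀ P : Sylow 2 G, ∀ a b : P, a * b = b * a)
    (hodd : Odd (Fintype.card F)) :
    (∀ P : Sylow 2 G, Nat.card ↥(P : Subgroup G) = 8) ∧ ¬ 8 ∣ Nat.card ↥c.K := by
  haveI : Fact (Nat.Prime 2) := ⟨Nat.prime_two⟩
  have hC := conf c hab hodd
  obtain ⟨a, b, r, T⟩ := hC.exists_tri
  obtain ⟨P₀, h8, -⟩ := exists_sylow_eight c hC T
  have hall : ∀ P : Sylow 2 G, Nat.card ↥(P : Subgroup G) = 8 := fun P => by
    rw [Nat.card_congr (P.equiv P₀).toEquiv]; exact h8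
  refine ⟨hall, fun h => ?_⟩
  have h16 : 2 ^ 4 ∣ Nat.card G := by
    refine dvd_trans ?_ (centralizer ({t} : Set G)).card_subgroup_dvd_card
    rw [Walter.NoField.sec_card c.prod c.ord]
    exact Nat.mul_dvd_mul_left 2 h
  have := P₀.pow_dvd_card_of_pow_dvd_card h16
  rw [h8] at this
  norm_num at this

theorem q_mod_eight (c : Cfg G F t) (hab : ∀ P : Sylow 2 G, ∀ a b : P, a * b = b * a)
    (hodd : Odd (Fintype.card F)) : Fintype.card F % 8 = 3 ∨ Fintype.card F % 8 = 5 := by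
  have hK := (sylow_facts c hab hodd).2
  rw [Nat.card_congr c.iso.toEquiv] at hK
  have hcard := Linear.two_mul_card_PSL_two_of_odd (F := F) hodd
  by_contra hcon
  set q := Fintype.card F
  apply hK
  have hq : q % 8 = 1 ∨ q % 8 = 7 := by rw [Nat.odd_iff] at hodd; omega
  refine Nat.dvd_of_mul_dvd_mul_left two_pos ?_
  rw [hcard, mul_assoc]
  refine Dvd.dvd.mul_left ?_ q
  rcases hq with h | h
  · rw [mul_comm (q - 1)]
    exact Nat.mul_dvd_mul (show 2 ∣ q + 1 by omega) (show 8 ∣ q - 1 by omega)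
  · exact Nat.mul_dvd_mul (show 2 ∣ q - 1 by omega) (show 8 ∣ q + 1 by omega)

end Cfsg.Agent.Lib.JankoThompson.Local
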