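/-
The centraliser in `K ≅ PSL₂(q)` of an involution `s`: `(Y × ⟨s⟩)⟨w⟩`, `Y` cyclic of odd order.
-/
import Cfsg.Agent.Lib.JankoThompson.Local.Base
import Cfsg.Agent.Lib.Walter.NoField.Local.TorusCyclic

set_option autoImplicit false
set_option linter.unusedSectionVars false
set_option linter.style.haveILetI false

universe u v

namespace Cfsg.Agent.Lib.JankoThompson.Local

open Subgroup Walter66

variable {G : Type u} [Group G] [Finite G] {F : Type v} [Field F] [Fintype F] {t : G}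

/-- The torus of the involution `s` of `K`, inverted by `w`. -/
structure TorusY (c : Cfg G F t) (s w : G) (Y : Subgroup G) : Prop where
  le : Y ≤ c.K
  cyc : IsCyclic ↥Y
  card : 4 * Nat.card ↥Y = (sgnQ (Fintype.card F) + 1).natAbs
  odd : Odd (Nat.card ↥Y)
  comm : ∀ y ∈ Y, Commute s y
  inv : ∀ y ∈ Y, w * y * w⁻¹ = y⁻¹
  mem : ∀ g ∈ c.K, Commute g s → Odd (orderOf g) → g ∈ Y
  cent : ∀ g ∈ c.K, Commute g s →
    ∃ h ∈ Y, ∃ v : G, (v = 1 ∨ v = s ∨ v = w ∨ v = s * w) ∧ g = h * v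

theorem exists_torusY (c : Cfg G F t) (hab : ∀ P : Sylow 2 G, ∀ a b : P, a * b = b * a)
    (h8 : Fintype.card F % 8 = 3 ∨ Fintype.card F % 8 = 5) {s w : G} (hs : s ∈ c.K) (hw : w ∈ c.K)
    (hs2 : orderOf s = 2) (hw2 : orderOf w = 2) (hne : s ≠ w) (hsw : Commute s w)
    (hfour : ∀ g ∈ c.K, g * s = s * g → g * w = w * g → g = 1 ∨ g = s ∨ g = w ∨ g = s * w)
    (hodd₀ : ∀ z ∈ c.K, Odd (orderOf z) → z ≠ 1 → ∀ x ∈ c.K, ∀ y ∈ c.K, x * z = z * x →
      y * z = z * y → x * y = y * x ∧ (x * x = 1 → y * y = 1 → x ≠ 1 → y ≠ 1 → x = y)) :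
    ∃ Y : Subgroup G, TorusY c s w Y := by
  classical
  haveI : Fact (Nat.Prime 2) := ⟨Nat.prime_two⟩
  obtain ⟨F₀, _, _, hcard, ⟨φ⟩⟩ := exists_model c
  set q := Fintype.card F with hq
  have h2 : (2 : F₀) ≠ 0 := PSLTwo.Sylow.two_ne_zero_of_odd (by omega)
  set D : Subgroup G := c.K ⊓ centralizer ({s} : Set G) with hD
  have hDs : ∀ x : ↥D, (x : G) * s = s * x := fun x =>
    mem_centralizer_singleton_iff.1 (mem_inf.1 x.2).2
  have hsD : s ∈ D := mem_inf.2 ⟨hs, mem_centralizer_singleton_iff.2 rfl⟩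
  have hwD : w ∈ D := mem_inf.2 ⟨hw, mem_centralizer_singleton_iff.2 hsw.eq.symm⟩
  have hss : s * s = 1 := sq_of_ord hs2
  have hww : w * w = 1 := sq_of_ord hw2
  set s' : ↥D := ⟨s, hsD⟩
  set w' : ↥D := ⟨w, hwD⟩
  obtain ⟨P, hP⟩ := (closure_pgroup (s := ({s', w'} : Set ↥D))
    (by rintro x (rfl | rfl) <;> exact Subtype.ext (by first | exact hss | exact hww))
    (by
      rintro x (rfl | rfl) y (rfl | rfl)
      exacts [rfl, Subtype.ext hsw.eq, Subtype.ext hsw.eq.symm, rfl])).exists_le_sylow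
  have hwP : w' ∈ (P : Subgroup ↥D) := hP (subset_closure (Or.inr rfl))
  have hPel : ∀ x : ↥D, x ∈ (P : Subgroup ↥D) →
      (x : G) = 1 ∨ (x : G) = s ∨ (x : G) = w ∨ (x : G) = s * w := by
    intro x hx
    refine hfour x (mem_inf.1 x.2).1 (hDs x) ?_
    have := pgroup_comm (fun S => ⟨⟨hab S⟩⟩) (P.isPGroup'.map D.subtype)
      (mem_map_of_mem D.subtype hx) (mem_map_of_mem D.subtype hwP)
    exact this
  have hnc : normalizer ((P : Subgroup ↥D) : Set ↥D) ≤
      centralizer ((P : Subgroup ↥D) : Set ↥D) := by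
    intro n hn
    refine mem_centralizer_iff.2 fun x hx => Subtype.ext ?_
    show (x : G) * n = (n : G) * x
    have hns : Commute (n : G) s := hDs n
    have hnw : Commute (n : G) w := by
      have hm : n * w' * n⁻¹ ∈ (P : Subgroup ↥D) := (mem_normalizer_iff.1 hn w').1 hwP
      rcases hPel _ hm with h | h | h | h
      · exact absurd (conj_eq_one_iff.1 (show (n : G) * w * (n : G)⁻¹ = 1 from h)) (ne_one_of_ord hw2)
      · exfalso
        have h' : (n : G) * w * (n : G)⁻¹ = (n : G) * s * (n : G)⁻¹ := by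
          rw [hns.eq, mul_inv_cancel_right]; simpa using h
        exact hne (mul_left_cancel (mul_right_cancel h')).symm
      · exact mul_inv_eq_iff_eq_mul.1 (by simpa using h)
      · exfalso
        have h' : (n : G) * w * (n : G)⁻¹ = s * w := by simpa using h
        have hb : (n : G) * (s * w) * (n : G)⁻¹ = w := by
          rw [show (n : G) * (s * w) * (n : G)⁻¹ =
            ((n : G) * s * (n : G)⁻¹) * ((n : G) * w * (n : G)⁻¹) by group, hns.eq,
            mul_inv_cancel_right, h', ← mul_assoc, hss, one_mul]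
        have := not_swap hab hww
          (show s * w * (s * w) = 1 by
            rw [show s * w * (s * w) = s * (w * s) * w by group, ← hsw.eq, ← mul_assoc, hss,
              one_mul, hww])
          (show w * (s * w) = s * w * w by rw [← mul_assoc, ← hsw.eq]) h' hb
        exact ne_one_of_ord hs2 (mul_eq_right.1 this.symm)
    rcases hPel x hx with h | h | h | h <;> rw [h]
    · rw [one_mul, mul_one]
    · exact hns.eq.symm
    · exact hnw.eq.symm
    · exact (hns.mul_right hnw).eq.symm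
  set τ := MonoidHom.transferSylow P hnc
  set Y : Subgroup G := τ.ker.map D.subtype with hY
  have hYcard : Nat.card ↥Y = Nat.card ↥τ.ker := card_map_of_injective D.subtype_injective
  have hodd : Odd (Nat.card ↥Y) := by
    rw [hYcard, ← Nat.not_even_iff_odd, even_iff_two_dvd]
    exact MonoidHom.not_dvd_card_ker_transferSylow P hnc
  have hYle : Y ≤ D := map_subtype_le _
  have hYK : Y ≤ c.K := fun y hy => (mem_inf.1 (hYle hy)).1
  have hYs : ∀ y ∈ Y, Commute s y := fun y hy =>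
    (mem_centralizer_singleton_iff.1 (mem_inf.1 (hYle hy)).2).symm
  have hYord : ∀ y ∈ Y, Odd (orderOf y) := fun y hy =>
    hodd.of_dvd_nat (Subgroup.orderOf_dvd_natCard _ hy)
  have hmem : ∀ g ∈ c.K, Commute g s → Odd (orderOf g) → g ∈ Y := by
    intro g hg hgs ho
    have hgD : g ∈ D := mem_inf.2 ⟨hg, mem_centralizer_singleton_iff.2 hgs.eq⟩
    refine ⟨⟨g, hgD⟩, MonoidHom.mem_ker.2 (orderOf_eq_one_iff.1 ?_), rfl⟩
    obtain ⟨k, hk⟩ := IsPGroup.iff_orderOf.1 P.isPGroup' (τ ⟨g, hgD⟩)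
    have h1 := orderOf_map_dvd τ ⟨g, hgD⟩
    rw [hk, Subgroup.orderOf_mk] at h1
    rcases k with _ | k
    · simpa using hk
    · exact absurd (dvd_trans (dvd_pow_self 2 (Nat.succ_ne_zero k)) h1)
        (Nat.not_even_iff_odd.2 ho ∘ even_iff_two_dvd.2)
  have hdec : ∀ g ∈ c.K, Commute g s →
      ∃ h ∈ Y, ∃ v : G, (v = 1 ∨ v = s ∨ v = w ∨ v = s * w) ∧ g = h * v := by
    intro g hg hgs
    have hgD : g ∈ D := mem_inf.2 ⟨hg, mem_centralizer_singleton_iff.2 hgs.eq⟩
    obtain ⟨⟨⟨h, hh⟩, ⟨p, hp⟩⟩, e⟩ :=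
      (MonoidHom.ker_transferSylow_isComplement' P hnc).2 ⟨g, hgD⟩
    exact ⟨(h : G), ⟨h, hh, rfl⟩, (p : G), hPel p hp, congrArg Subtype.val e.symm⟩
  -- cyclic, of order dividing `(q ± 1) / 4`
  let ψ : ↥Y →* Matrix.ProjectiveSpecialLinearGroup (Fin 2) F₀ :=
    φ.toMonoidHom.comp (Subgroup.inclusion hYK)
  have hψ : Function.Injective ψ := φ.injective.comp (Subgroup.inclusion_injective _)
  have hψcard : Nat.card ψ.range = Nat.card ↥Y :=
    (Nat.card_congr (MonoidHom.ofInjective hψ).toEquiv).symm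
  have hz1 : φ ⟨s, hs⟩ ≠ 1 := fun h =>
    ne_one_of_ord hs2 (congrArg Subtype.val ((φ.map_eq_one_iff).1 h))
  obtain ⟨hcyc, hb1, hb3⟩ := Walter.NoField.cyclic_of_odd_centralizes h2 (w := φ ⟨s, hs⟩)
    (by rw [← map_mul, show (⟨s, hs⟩ : ↥c.K) * ⟨s, hs⟩ = 1 from Subtype.ext hss, map_one]) hz1
    (H := ψ.range) (hψcard ▸ hodd) (by
      rintro _ ⟨y, rfl⟩
      show φ ⟨s, hs⟩ * φ _ = φ _ * φ ⟨s, hs⟩
      rw [← map_mul, ← map_mul]
      exact congrArg φ (Subtype.ext (hYs y y.2).eq))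
  rw [hψcard, hcard] at hb1 hb3
  have hcycY : IsCyclic ↥Y :=
    @isCyclic_of_injective _ _ _ _ hcyc ψ.rangeRestrict fun x y h => hψ (congrArg Subtype.val h)
  obtain ⟨p, hp⟩ := CharP.exists F₀
  haveI : Fact p.Prime := ⟨CharP.char_is_prime F₀ p⟩
  have hp2 : p ≠ 2 := by
    rintro rfl
    exact h2 (CharP.cast_eq_zero F₀ 2)
  have hzord : orderOf (φ ⟨s, hs⟩) = 2 := by rw [MulEquiv.orderOf_eq, Subgroup.orderOf_mk, hs2]
  have hzp : φ ⟨s, hs⟩ ^ p ≠ 1 := fun h =>
    hp2 ((Nat.prime_dvd_prime_iff_eq Nat.prime_two (Fact.out : p.Prime)).1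
      (hzord ▸ orderOf_dvd_of_pow_eq_one h)).symm
  set n := Nat.card ↥Y with hn
  have key : ∀ N, (N = q - 1 ∨ N = q + 1) → N % 8 = 4 → n ∣ N → 4 * n = N := by
    intro N hN hN8 hdvd
    have hg : Nat.gcd 2 (q - 1) * (N / 2) = N := by
      rw [Nat.gcd_eq_left (show 2 ∣ q - 1 by omega)]; omega
    obtain ⟨y, hy, hzy⟩ := DicksonId.exists_torus (p := p) hzp (hcard.symm ▸ hN)
      (hcard.symm ▸ hg) (orderOf_dvd_iff_pow_eq_one.1 (by rw [hzord]; omega))
    obtain ⟨x, rfl⟩ := φ.surjective y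
    have hxw : (x : G) * s = s * x := by
      have h := (DicksonId.commute_of_mem_zpowers hzy).eq
      rw [← map_mul, ← map_mul] at h
      exact congrArg Subtype.val (φ.injective h)
    have ho : orderOf ((x : G) ^ 2) = N / 4 := by
      rw [orderOf_pow, Subgroup.orderOf_coe, ← MulEquiv.orderOf_eq φ x, hy,
        Nat.gcd_eq_right (show 2 ∣ N / 2 by omega)]
      omega
    have hxY : (x : G) ^ 2 ∈ Y := hmem _ (pow_mem x.2 2) ((show Commute (x : G) s from hxw).pow_left 2)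
      (by rw [ho]; exact Nat.odd_iff.2 (by omega))
    have h1 : N / 4 ∣ n := ho ▸ Subgroup.orderOf_dvd_natCard _ hxY
    have h2 : n ∣ N / 4 := by
      refine Nat.Coprime.dvd_of_dvd_mul_left ?_ (show n ∣ 4 * (N / 4) by
        rwa [show 4 * (N / 4) = N by omega])
      exact (Nat.Coprime.pow_right 2 (Nat.coprime_two_right.2 hodd) : Nat.Coprime n (2 ^ 2))
    have h3 := Nat.dvd_antisymm h1 h2
    omega
  have hnY : 4 * n = (sgnQ q + 1).natAbs := by
    unfold sgnQ
    rcases h8 with h | h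
    · have h4 : q % 4 = 3 := by omega
      rw [if_pos h4, key (q + 1) (Or.inr rfl) (by omega) (hb3 h4)]
      omega
    · have h4 : q % 4 = 1 := by omega
      rw [if_neg (by omega), key (q - 1) (Or.inl rfl) (by omega) (hb1 h4)]
      omega
  -- `w` inverts
  have hinv : ∀ y ∈ Y, w * y * w⁻¹ = y⁻¹ := by
    intro y hy
    have hwy : w * y * w⁻¹ ∈ Y := by
      obtain ⟨x, hx, rfl⟩ := hy
      exact ⟨w' * x * w'⁻¹, (MonoidHom.normal_ker τ).conj_mem x hx w', rfl⟩
    haveI := hcycY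
    have hcomm : y * (w * y * w⁻¹) = w * y * w⁻¹ * y := congrArg Subtype.val
      (IsCyclic.commGroup.mul_comm (⟨y, hy⟩ : ↥Y) ⟨_, hwy⟩)
    set z := y * (w * y * w⁻¹) with hz
    have hzY : z ∈ Y := mul_mem hy hwy
    have hwz : w * z = z * w := by
      calc w * z = (w * y * w⁻¹) * (w * w) * y * (w * w)⁻¹ * w := by rw [hz]; group
        _ = (w * y * w⁻¹) * y * w := by rw [hww]; group
        _ = z * w := by rw [← hcomm]
    rcases eq_or_ne z 1 with h1 | h1
    · exact eq_inv_of_mul_eq_one_right h1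
    · exact absurd ((hodd₀ z (hYK hzY) (hYord z hzY) h1 s hs w hw (hYs z hzY).eq hwz).2 hss hww
        (ne_one_of_ord hs2) (ne_one_of_ord hw2)) hne
  exact ⟨Y, hYK, hcycY, hnY, hodd, hYs, hinv, hmem, hdec⟩

end Cfsg.Agent.Lib.JankoThompson.Local
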